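import Cfsg.Agent.Lib.KGroups.CBTwo
import Cfsg.Agent.Lib.DegreeTools.VanishSingular.RegularOrbit
import Cfsg.Agent.Lib.Solvable.TwoClassQuotient
import Cfsg.Agent.Lib.PGroup.ConjugateSubgroups
import Cfsg.Agent.Lib.TwoGroups.SolvableQuaternionCore

/-!
Coprime actions, transitive on lines, of solvable groups in which abelian subgroups of equal order
are conjugate: no two independent commuting elements of the same prime order, and a quaternion
Sylow 2-subgroup is normal.
-/

set_option autoImplicit false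
set_option linter.style.haveILetI false
set_option linter.unusedSectionVars false

open scoped commutatorElement

namespace CfsgLib.KGroups.CB.SubgroupConj

open Subgroup CfsgLib.Solvable

universe u v

/-- No two independent commuting elements of order `r`. -/
def NoPair (G : Type*) [Group G] (r : ℕ) : Prop :=
  ∀ a b : G, orderOf a = r → orderOf b = r → a * b = b * a → b ∈ zpowers a

theorem NoPair.of_injective {G H : Type*} [Group G] [Group H] {r : ℕ} (h : NoPair G r) (f : H →* G)
    (hf : Function.Injective f) : NoPair H r := fun a b ha hb hab => by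
  obtain ⟨i, hi⟩ := mem_zpowers_iff.1 (h (f a) (f b) (by rw [orderOf_injective f hf, ha])
    (by rw [orderOf_injective f hf, hb]) (by rw [← map_mul, ← map_mul, hab]))
  exact ⟨i, hf (by rw [map_zpow]; exact hi)⟩

theorem few_of_noPair {X : Type*} [Group X] [Finite X] {r : ℕ} [hr : Fact r.Prime] (hX : IsPGroup r X)
    (h : NoPair X r) : Nat.card {x : X // x ^ r = 1} ≤ r := by
  rcases subsingleton_or_nontrivial X with hs | hnt
  · exact (Finite.card_le_one_iff_subsingleton.mpr inferInstance).trans hr.out.one_le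
  haveI := hX.center_nontrivial
  obtain ⟨n, hn0, hn⟩ := (hX.to_subgroup (center X)).nontrivial_iff_card.mp inferInstance
  obtain ⟨z, hz⟩ := exists_prime_orderOf_dvd_card' (G := center X) r (hn ▸ dvd_pow_self r hn0.ne')
  have hzo : orderOf (z : X) = r := by rw [Subgroup.orderOf_coe]; exact hz
  refine (Nat.card_le_card_of_injective (fun x : {x : X // x ^ r = 1} =>
    (⟨x.1, ?_⟩ : zpowers (z : X))) fun a b hab => Subtype.ext (congrArg Subtype.val hab :)).trans_eq
      (by rw [Nat.card_zpowers, hzo])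
  by_cases hx : x.1 = 1
  · rw [hx]; exact one_mem _
  · exact h _ _ hzo (orderOf_eq_prime x.2 hx) (mem_center_iff.1 z.2 x.1).symm

theorem commutative_or_quaternion_card {X : Type*} [Group X] [Finite X] {n : ℕ}
    (e : X ≃* QuaternionGroup (2 ^ n)) : Nat.card X = 4 * 2 ^ n := by
  haveI : NeZero (2 ^ n) := ⟨by positivity⟩
  rw [Nat.card_congr e.toEquiv, Nat.card_eq_fintype_card, QuaternionGroup.card]

theorem isCyclic_quaternion_zero {X : Type*} [Group X] (e : X ≃* QuaternionGroup (2 ^ 0)) :
    IsCyclic X := by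
  haveI : IsCyclic (QuaternionGroup (2 ^ 0)) :=
    TwoGroups.SolvableQuaternionCore.quaternion_one_cyclic
  exact isCyclic_of_surjective e.symm.toMonoidHom e.symm.surjective

/-- A Sylow 2-subgroup without a pair is cyclic or quaternion of order eight. -/
theorem sylow_two {G : Type u} [Group G] [Finite G] [Group.IsSolvable G] (h : IsCB G) (P : Sylow 2 G)
    (hnp : NoPair G 2) : IsCyclic P ∨ Nonempty (P ≃* QuaternionGroup 2) := by
  haveI : Fact (Nat.Prime 2) := ⟨Nat.prime_two⟩
  have hfew := few_of_noPair P.2 (hnp.of_injective _ (P : Subgroup G).subtype_injective)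
  rcases FrobRealize.Quaternion.cyclic_or_quaternion P.2 hfew with hc | ⟨-, n, ⟨e⟩⟩
  · exact Or.inl hc
  rcases Nat.lt_trichotomy n 1 with h0 | rfl | h2
  · obtain rfl : n = 0 := by omega
    exact Or.inl (isCyclic_quaternion_zero e)
  · exact Or.inr ⟨e⟩
  · exact (h.quaternion_small P h2 e hfew).elim

/-- An element of `r`-power order of the Fitting subgroup lies in `O_r`. -/
theorem mem_pCore_of_mem_fitting {G : Type u} [Group G] [Finite G] {r : ℕ} [hr : Fact r.Prime]
    {x : G} (hx : x ∈ Cfsg.fittingSubgroup G) {k : ℕ} (hk : x ^ r ^ k = 1) :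
    x ∈ Cfsg.pCore r G := by
  have hle : Cfsg.fittingSubgroup G ≤ Cfsg.pPrimeCore r G ⊔ Cfsg.pCore r G := by
    rw [Cores.fittingSubgroup_eq_iSup_pCore]
    refine iSup_le fun q => ?_
    by_cases hq : (q : ℕ) = r
    · rw [hq]; exact le_sup_right
    · haveI := Fact.mk q.2
      exact le_sup_of_le_left (Cores.pCore_le_pPrimeCore hr.out hq)
  obtain ⟨w, hw, o, ho, hwo⟩ := Subgroup.mem_sup_of_normal_right.mp (hle hx)
  set q := QuotientGroup.mk' (Cfsg.pCore r G) with hq
  have hqx : q x = q w := by
    rw [← hwo, map_mul, show q o = 1 from (QuotientGroup.eq_one_iff o).mpr ho, mul_one]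
  have h1 : orderOf (q w) ∣ r ^ k := by
    rw [← hqx]; exact orderOf_dvd_of_pow_eq_one (by rw [← map_pow, hk, map_one])
  have h2 : orderOf (q w) ∣ Nat.card (Cfsg.pPrimeCore r G) :=
    (orderOf_map_dvd q w).trans (Subgroup.orderOf_dvd_natCard _ hw)
  have h3 : q w = 1 := orderOf_eq_one_iff.mp (Nat.eq_one_of_dvd_coprimes
    ((Cores.coprime_card_pPrimeCore (G := G) r).pow_right k) h2 h1)
  exact (QuotientGroup.eq_one_iff x).mp (hqx.trans h3)

section Action

variable {H : Type u} [Group H] [Finite H] {V : Type v} [CommGroup V] [Finite V] [Nontrivial V]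
  {φ : H →* MulAut V}

/-- Two independent commuting elements of order `r` cannot act fixed-point-freely. -/
theorem exists_fixed {r : ℕ} [hr : Fact r.Prime] (hcop : r.Coprime (Nat.card V)) {a b : H}
    (ha : a ^ r = 1) (ha1 : a ≠ 1) (hb : b ^ r = 1) (hab : a * b = b * a) (hnot : b ∉ zpowers a) :
    ∃ e : H, e ∈ closure ({a, b} : Set H) ∧ e ≠ 1 ∧ ∃ v : V, v ≠ 1 ∧ φ e v = v := by
  classical
  by_contra hcon
  push Not at hcon
  have hmem : ∀ i j : ℕ, a ^ i * b ^ j ∈ closure ({a, b} : Set H) := fun i j =>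
    mul_mem (pow_mem (subset_closure (by simp)) i) (pow_mem (subset_closure (by simp)) j)
  have hbne : ∀ i j : ℕ, ¬ r ∣ j → a ^ i * b ^ j ≠ 1 := by
    intro i j hj h1
    apply hnot
    have h2 : b ^ j ∈ zpowers a := by
      rw [eq_inv_of_mul_eq_one_right h1]
      exact inv_mem (pow_mem (mem_zpowers a) i)
    have hb1 : b ≠ 1 := fun h => hnot (h ▸ one_mem _)
    have hbo : orderOf b = r := orderOf_eq_prime hb hb1
    have hc : (orderOf b).Coprime j := hbo ▸ hr.out.coprime_iff_not_dvd.mpr hj
    obtain ⟨m, hm⟩ := exists_pow_eq_self_of_coprime hc.symm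
    rw [← hm]
    exact pow_mem h2 m
  have hNorm : ∀ e ∈ closure ({a, b} : Set H), e ≠ 1 → e ^ r = 1 → ∀ v : V,
      ∏ i ∈ Finset.range r, φ (e ^ i) v = 1 := by
    intro e he he1 her v
    refine Classical.byContradiction fun h => hcon e he he1 _ h ?_
    rw [map_prod]
    have h1 : ∀ i, φ e (φ (e ^ i) v) = φ (e ^ (i + 1)) v := fun i => by
      rw [pow_succ', map_mul, MulAut.mul_apply]
    simp only [h1]
    have h2 := Finset.prod_range_succ' (fun i => φ (e ^ i) v) r
    rw [Finset.prod_range_succ, her, pow_zero] at h2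
    exact (mul_right_cancel h2).symm
  obtain ⟨v, hv⟩ := exists_ne (1 : V)
  apply hv
  have hX : ∀ i ∈ Finset.range r, i ≠ 0 → ∀ w : V,
      ∏ j ∈ Finset.range r, φ (b ^ (i * j)) w = 1 := by
    intro i hi hi0 w
    simp_rw [pow_mul]
    have hi' : ¬ r ∣ i := fun hd => by
      have := Nat.le_of_dvd (Nat.pos_of_ne_zero hi0) hd
      have := Finset.mem_range.mp hi
      omega
    exact hNorm _ (pow_mem (subset_closure (by simp)) i) (by simpa using hbne 0 i hi')
      (by rw [← pow_mul, mul_comm, pow_mul, hb, one_pow]) w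
  have hgen : ∀ j : ℕ, ∏ i ∈ Finset.range r, φ ((a * b ^ j) ^ i) v = 1 := by
    intro j
    refine hNorm _ (by simpa using hmem 1 j) ?_ ?_ v
    · by_cases hj : r ∣ j
      · intro h1
        obtain ⟨c, rfl⟩ := hj
        rw [pow_mul, hb, one_pow, mul_one] at h1
        exact ha1 h1
      · simpa using hbne 1 j hj
    · rw [(show Commute a (b ^ j) from (show Commute a b from hab).pow_right j).mul_pow, ha, one_mul,
        ← pow_mul, mul_comm, pow_mul, hb, one_pow]
  have h0 : ∏ j ∈ Finset.range r, ∏ i ∈ Finset.range r, φ ((a * b ^ j) ^ i) v = 1 :=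
    Finset.prod_eq_one fun j _ => hgen j
  rw [Finset.prod_comm, Finset.prod_eq_single 0] at h0
  · simp only [pow_zero, map_one, MulAut.one_apply, Finset.prod_const, Finset.card_range] at h0
    rw [← orderOf_eq_one_iff]
    exact Nat.eq_one_of_dvd_coprimes hcop (orderOf_dvd_of_pow_eq_one h0) (orderOf_dvd_natCard v)
  · intro i hi hi0
    have h1 : ∀ j, φ ((a * b ^ j) ^ i) v = φ (a ^ i) (φ (b ^ (i * j)) v) := fun j => by
      rw [(show Commute a (b ^ j) from (show Commute a b from hab).pow_right j).mul_pow, ← pow_mul,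
        mul_comm j i, map_mul, MulAut.mul_apply]
    simp only [h1]
    rw [← map_prod, hX i hi hi0, map_one]
  · intro h
    exact absurd (Finset.mem_range.mpr hr.out.pos) h

variable [Group.IsSolvable H]

theorem pair_free_of_abelian (hφ : Function.Injective φ)
    (hline : ∀ x y : V, x ≠ 1 → y ≠ 1 → ∃ g : H, φ g x ∈ zpowers y)
    (hcop : (Nat.card H).Coprime (Nat.card V)) {M : Subgroup H} [M.Normal] (hM : IsMulCommutative M)
    {r : ℕ} [hr : Fact r.Prime] {a b : H} (haM : a ∈ M) (hbM : b ∈ M) (ha : orderOf a = r)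
    (hb : orderOf b = r) : b ∈ zpowers a := by
  by_contra hnot
  have hc := CfsgLib.Solvable.Basic.isMulCommutative_subgroup_iff.mp hM
  obtain ⟨e, he, he1, v, hv, hev⟩ := exists_fixed (φ := φ)
    (hcop.coprime_dvd_left (ha ▸ orderOf_dvd_natCard a)) (ha ▸ pow_orderOf_eq_one a)
    (fun e => by rw [e, orderOf_one] at ha; exact hr.out.ne_one ha.symm)
    (hb ▸ pow_orderOf_eq_one b) (hc a haM b hbM) hnot
  have heM : e ∈ M := (closure_le M).mpr (by
    rintro x (rfl | rfl)
    · exact haM
    · exact hbM) he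
  letI : CommGroup M := { (inferInstance : Group M) with mul_comm := fun x y => Subtype.ext (hc x x.2 y y.2) }
  obtain ⟨z, hz⟩ := DegreeTools.VanishSingular.exists_regular (φ.comp M.subtype)
    (hφ.comp M.subtype_injective) (fun m : V => pow_card_eq_one')
    (hcop.coprime_dvd_left (Subgroup.card_subgroup_dvd_card M))
  have hz1 : z ≠ 1 := fun h => he1 (congrArg Subtype.val (hz ⟨e, heM⟩ (by rw [h, map_one])))
  obtain ⟨g, hg⟩ := hline z v hz1 hv
  obtain ⟨i, hi⟩ := mem_zpowers_iff.mp hg
  have hfix : φ e (φ g z) = φ g z := by rw [← hi, map_zpow, hev]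
  have h1 := hz ⟨g⁻¹ * e * g, by simpa using Subgroup.Normal.conj_mem inferInstance e heM g⁻¹⟩ (by
    show φ (g⁻¹ * e * g) z = z
    rw [map_mul, map_mul, MulAut.mul_apply, MulAut.mul_apply, hfix, ← MulAut.mul_apply, ← map_mul,
      inv_mul_cancel, map_one, MulAut.one_apply])
  apply he1
  have h2 : g⁻¹ * e * g = 1 := congrArg Subtype.val h1
  calc e = g * (g⁻¹ * e * g) * g⁻¹ := by group
    _ = 1 := by rw [h2, mul_one, mul_inv_cancel]

variable (hφ : Function.Injective φ) (h : IsCB H)
  (hline : ∀ x y : V, x ≠ 1 → y ≠ 1 → ∃ g : H, φ g x ∈ zpowers y)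
  (hcop : (Nat.card H).Coprime (Nat.card V))

include hφ h hline hcop

/-- Each `O_q` is cyclic or quaternion. -/
theorem pCore_cyclic_or_quaternion (q : ℕ) [hq : Fact q.Prime] :
    IsCyclic (Cfsg.pCore q H) ∨
      (q = 2 ∧ ∃ n : ℕ, Nonempty (Cfsg.pCore q H ≃* QuaternionGroup (2 ^ n))) := by
  set T := Cfsg.pCore q H with hT
  have hTp : IsPGroup q T := Cores.isPGroup_pCore q
  refine FrobRealize.Quaternion.cyclic_or_quaternion hTp (few_of_noPair hTp ?_)
  intro a b ha hb _
  have hT0 : T ≠ ⊥ := fun hb0 => by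
    have h1 : a = 1 := Subtype.ext (Subgroup.mem_bot.mp (hb0 ▸ a.2 : (a : H) ∈ (⊥ : Subgroup H)))
    rw [h1, orderOf_one] at ha
    exact hq.out.ne_one ha.symm
  obtain ⟨M, hMn, hM, hMT, hmin⟩ := Basic.exists_minimal_normal_le hT0
  haveI := hMn
  obtain ⟨hMc, q', hq', hexp, -⟩ := Basic.minimal_normal_solvable M hM hmin
  obtain ⟨m, hmM, hm1⟩ := M.bot_or_exists_ne_one.resolve_left hM
  have hqq : q' = q := by
    obtain ⟨k, hk⟩ := hTp ⟨m, hMT hmM⟩
    have h1 : m ^ q ^ k = 1 := congrArg Subtype.val hk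
    haveI := Fact.mk hq'
    have h2 := orderOf_eq_prime (hexp m hmM) hm1
    exact (Nat.prime_dvd_prime_iff_eq hq' hq.out).mp
      (hq'.dvd_of_dvd_pow (h2 ▸ orderOf_dvd_of_pow_eq_one h1))
  subst hqq
  have hmo := orderOf_eq_prime (hexp m hmM) hm1
  have haM : (a : H) ∈ M := h.mem_of_order hmM (by rw [hmo, Subgroup.orderOf_coe, ha])
  have hbM : (b : H) ∈ M := h.mem_of_order hmM (by rw [hmo, Subgroup.orderOf_coe, hb])
  obtain ⟨i, hi⟩ := mem_zpowers_iff.1 (pair_free_of_abelian hφ hline hcop hMc (r := q') haM hbM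
    (by rw [Subgroup.orderOf_coe, ha]) (by rw [Subgroup.orderOf_coe, hb]))
  exact ⟨i, Subtype.ext (by simpa using hi)⟩

omit hφ h hline hcop in
theorem commutator_centralizes {T : Subgroup H} [T.Normal] [IsCyclic T] {c : H}
    (hc : c ∈ commutator H) : ∀ x ∈ T, c * x = x * c := by
  intro x hx
  let ψ : H →* MulAut T := MulAut.conjNormal
  have hk : commutator H ≤ ψ.ker := by
    rw [commutator_def, Subgroup.commutator_le]
    intro a _ b _
    rw [MonoidHom.mem_ker, map_commutatorElement, commutatorElement_eq_one_iff_mul_comm]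
    apply (IsCyclic.mulAutMulEquiv T).injective
    rw [map_mul, map_mul, mul_comm]
  have h1 : ψ c ⟨x, hx⟩ = ⟨x, hx⟩ := by rw [MonoidHom.mem_ker.mp (hk hc)]; rfl
  have h2 : c * x * c⁻¹ = x := congrArg Subtype.val h1
  exact mul_inv_eq_iff_eq_mul.mp h2

omit hφ h hline hcop in
theorem mem_fitting_of_centralizes {c : H}
    (hc : ∀ q : ℕ, q.Prime → ∀ x ∈ Cfsg.pCore q H, c * x = x * c) : c ∈ Cfsg.fittingSubgroup H := by
  refine Cores.centralizer_fittingSubgroup_le ?_
  have hle : Cfsg.fittingSubgroup H ≤ centralizer ({c} : Set H) := by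
    rw [Cores.fittingSubgroup_eq_iSup_pCore]
    refine iSup_le fun q x hx => ?_
    rw [mem_centralizer_singleton_iff]
    exact (hc q q.2 x hx).symm
  rw [mem_centralizer_iff]
  exact fun x hx => (mem_centralizer_singleton_iff.mp (hle hx))

omit hφ hline hcop in
theorem pair_in_commutator {r : ℕ} [hr : Fact r.Prime] {a b : H} (ha : orderOf a = r)
    (hb : orderOf b = r) (hab : a * b = b * a) (hnot : b ∉ zpowers a) :
    a ∈ commutator H ∧ b ∈ commutator H := by
  obtain ⟨g, hg⟩ := h (zpowers a) (zpowers b) inferInstance inferInstance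
    (by rw [Nat.card_zpowers, Nat.card_zpowers, ha, hb])
  set a' := g * a * g⁻¹ with ha'
  have ha'b : a' ∈ zpowers b := by
    rw [hg]; exact ⟨a, mem_zpowers a, rfl⟩
  obtain ⟨i, hi⟩ := mem_zpowers_iff.mp ha'b
  have hcomm : Commute a' a⁻¹ := by
    rw [← hi]; exact ((show Commute a b from hab).symm.zpow_left i).inv_right
  have hx : a' * a⁻¹ ∈ commutator H := by
    rw [ha', show g * a * g⁻¹ * a⁻¹ = ⁅g, a⁆ from (commutatorElement_def g a).symm]
    exact Subgroup.commutator_mem_commutator (Subgroup.mem_top _) (Subgroup.mem_top _)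
  have ha'o : orderOf a' = r := by
    rw [ha', ← MulAut.conj_apply, MulEquiv.orderOf_eq, ha]
  have hxo : orderOf (a' * a⁻¹) = r := by
    refine orderOf_eq_prime ?_ ?_
    · rw [hcomm.mul_pow, inv_pow, ← ha'o, pow_orderOf_eq_one, ha'o, ← ha, pow_orderOf_eq_one,
        inv_one, mul_one]
    · intro h1
      rw [mul_inv_eq_one] at h1
      rw [h1] at ha'b
      apply hnot
      have h2 : zpowers a = zpowers b := eq_of_le_of_card_ge (zpowers_le.mpr ha'b)
        (by rw [Nat.card_zpowers, Nat.card_zpowers, ha, hb])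
      exact h2 ▸ mem_zpowers b
  exact ⟨h.mem_of_order hx (by rw [hxo, ha]), h.mem_of_order hx (by rw [hxo, hb])⟩

theorem noPair_aux {r : ℕ} [hr : Fact r.Prime] (hnp2 : r ≠ 2 → NoPair H 2) : NoPair H r := by
  classical
  intro a b ha hb hab
  by_contra hnot
  obtain ⟨haC, hbC⟩ := pair_in_commutator h ha hb hab hnot
  -- `O_r` contains no element of order `r`
  have hOr : ∀ x ∈ Cfsg.pCore r H, orderOf x ≠ r := by
    intro x hx hxo
    set T := Cfsg.pCore r H
    have haT : a ∈ T := h.mem_of_order hx (by rw [hxo, ha])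
    have hbT : b ∈ T := h.mem_of_order hx (by rw [hxo, hb])
    have hT0 : T ≠ ⊥ := fun h0 => by
      rw [h0, Subgroup.mem_bot] at hx
      rw [hx, orderOf_one] at hxo
      exact hr.out.ne_one hxo.symm
    obtain ⟨M, hMn, hM, hMT, hmin⟩ := Basic.exists_minimal_normal_le hT0
    haveI := hMn
    obtain ⟨hMc, q, hq, hexp, -⟩ := Basic.minimal_normal_solvable M hM hmin
    obtain ⟨m, hmM, hm1⟩ := M.bot_or_exists_ne_one.resolve_left hM
    haveI := Fact.mk hq
    have hmo := orderOf_eq_prime (hexp m hmM) hm1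
    have hqr : q = r := by
      obtain ⟨k, hk⟩ := Cores.isPGroup_pCore (G := H) r ⟨m, hMT hmM⟩
      have h1 : m ^ r ^ k = 1 := congrArg Subtype.val hk
      exact (Nat.prime_dvd_prime_iff_eq hq hr.out).mp
        (hq.dvd_of_dvd_pow (hmo ▸ orderOf_dvd_of_pow_eq_one h1))
    subst hqr
    exact hnot (pair_free_of_abelian hφ hline hcop hMc (h.mem_of_order hmM (by rw [hmo, ha]))
      (h.mem_of_order hmM (by rw [hmo, hb])) ha hb)
  have haF : a ∈ Cfsg.fittingSubgroup H := by
    refine mem_fitting_of_centralizes fun q hq x hx => ?_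
    haveI := Fact.mk hq
    rcases pCore_cyclic_or_quaternion hφ h hline hcop q with hc | ⟨rfl, n, ⟨e⟩⟩
    · haveI := hc
      exact commutator_centralizes haC x hx
    set T := Cfsg.pCore 2 H with hTdef
    rcases Nat.eq_zero_or_pos n with rfl | hn
    · haveI := isCyclic_quaternion_zero e
      exact commutator_centralizes haC x hx
    -- `T` is quaternion of order eight
    have hr2 : r ≠ 2 := by
      rintro rfl
      haveI : NeZero (2 ^ n) := ⟨by positivity⟩
      haveI : Fact (Nat.Prime 2) := ⟨Nat.prime_two⟩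
      obtain ⟨y, hy⟩ := exists_prime_orderOf_dvd_card' (G := T) 2
        (by rw [commutative_or_quaternion_card e]; exact dvd_mul_of_dvd_left (by norm_num) _)
      exact hOr y y.2 (by rw [Subgroup.orderOf_coe]; exact hy)
    obtain ⟨P⟩ : Nonempty (Sylow 2 H) := inferInstance
    have hTP : T ≤ P := Cores.pCore_le_sylow P
    have hn1 : n = 1 := by
      rcases sylow_two h P (hnp2 hr2) with hc | hne
      · haveI := hc
        haveI : IsCyclic T := isCyclic_of_injective (Subgroup.inclusion hTP) (Subgroup.inclusion_injective _)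
        exfalso
        haveI : NeZero (2 ^ n) := ⟨by positivity⟩
        haveI : IsCyclic (QuaternionGroup (2 ^ n)) :=
          isCyclic_of_surjective e.toMonoidHom e.surjective
        have h1 := (IsCyclic.commGroup (α := QuaternionGroup (2 ^ n))).mul_comm
          (QuaternionGroup.a 1) (QuaternionGroup.xa 0)
        simp only [QuaternionGroup.a_mul_xa, QuaternionGroup.xa_mul_a, QuaternionGroup.xa.injEq,
          zero_sub, zero_add] at h1
        have h2 : ((2 : ℕ) : ZMod (2 * 2 ^ n)) = 0 := by
          push_cast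
          linear_combination -h1
        rw [ZMod.natCast_eq_zero_iff] at h2
        have h3 := Nat.le_of_dvd two_pos h2
        have h4 := Nat.one_lt_pow hn.ne' one_lt_two
        omega
      · obtain ⟨eP⟩ := hne
        have h8 := Subgroup.card_le_of_le hTP
        rw [commutative_or_quaternion_card e, commutative_or_quaternion_card (n := 1) eP] at h8
        have : n ≤ 1 := (Nat.pow_le_pow_iff_right one_lt_two).mp (by omega)
        omega
    subst hn1
    set ψ : H →* MulAut T := MulAut.conjNormal with hψ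
    have hker : a ∈ ψ.ker := by
      by_contra hna
      obtain ⟨E, hE, -, -, hEf⟩ := CfsgLib.PGroup.ConjugateSubgroups.exists_pair ha
        (hb ▸ pow_orderOf_eq_one b) hab hnot
      have hinj : Function.Injective (ψ.comp E.subtype) := by
        rw [injective_iff_map_eq_one]
        rintro ⟨w, hw⟩ hψw
        by_contra hw1
        obtain ⟨i, j, rfl⟩ := hEf w hw
        have hwr : (a ^ i * b ^ j) ^ r = 1 := by
          rw [((show Commute a b from hab).zpow_zpow i j).mul_pow, ← zpow_natCast (a ^ i),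
            ← zpow_natCast (b ^ j), ← zpow_mul, ← zpow_mul, mul_comm i, mul_comm j, zpow_mul,
            zpow_mul, zpow_natCast, zpow_natCast, ← ha, pow_orderOf_eq_one, ha, ← hb,
            pow_orderOf_eq_one, one_zpow, one_zpow, one_mul]
        exact hna (h.mem_of_order (M := ψ.ker) (m := a ^ i * b ^ j) hψw
          (by rw [orderOf_eq_prime hwr (fun e => hw1 (Subtype.ext e)), ha]))
      have hd : r ^ 2 ∣ 24 := by
        rw [← hE, ← TwoClassQuotient.card_mulAut_quaternion_eight (R := T) e]
        exact Subgroup.card_dvd_of_injective _ hinj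
      have h5 : r ≤ 4 := by
        have := Nat.le_of_dvd (by norm_num) hd
        nlinarith
      have h2 := hr.out.two_le
      interval_cases r
      · exact hr2 rfl
      · norm_num at hd
      · exact absurd hr.out (by norm_num)
    have h1 : ψ a ⟨x, hx⟩ = ⟨x, hx⟩ := by rw [MonoidHom.mem_ker.mp hker]; rfl
    exact mul_inv_eq_iff_eq_mul.mp (congrArg Subtype.val h1)
  exact hOr a (mem_pCore_of_mem_fitting haF (k := 1) (by rw [pow_one, ← ha, pow_orderOf_eq_one])) ha

/-- No two independent commuting elements of prime order. -/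
theorem noPair (r : ℕ) [hr : Fact r.Prime] : NoPair H r :=
  haveI : Fact (Nat.Prime 2) := ⟨Nat.prime_two⟩
  noPair_aux hφ h hline hcop fun _ => noPair_aux hφ h hline hcop fun hne => absurd rfl hne

/-- A quaternion Sylow 2-subgroup is normal. -/
theorem quaternion_normal (P : Sylow 2 H) (eP : P ≃* QuaternionGroup 2) : (P : Subgroup H).Normal := by
  classical
  haveI : Fact (Nat.Prime 2) := ⟨Nat.prime_two⟩
  set T := Cfsg.pCore 2 H with hTdef
  have hTP : T ≤ P := Cores.pCore_le_sylow P
  by_cases hnc : IsCyclic T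
  swap
  · rcases pCore_cyclic_or_quaternion hφ h hline hcop 2 with hc | ⟨-, n, ⟨e⟩⟩
    · exact absurd hc hnc
    have hn : 1 ≤ n := Nat.one_le_iff_ne_zero.mpr fun h0 => by
      subst h0; exact hnc (isCyclic_quaternion_zero e)
    have hT : T = (P : Subgroup H) := by
      refine eq_of_le_of_card_ge hTP ?_
      rw [commutative_or_quaternion_card (n := 1) eP, commutative_or_quaternion_card e]
      exact Nat.mul_le_mul_left 4 (Nat.pow_le_pow_right two_pos hn)
    exact hT ▸ inferInstance
  exfalso
  set i : H := ((eP.symm (QuaternionGroup.a 1) : P) : H) with hi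
  set j : H := ((eP.symm (QuaternionGroup.xa 0) : P) : H) with hj
  have hio : orderOf i = 4 := by
    rw [hi, Subgroup.orderOf_coe, MulEquiv.orderOf_eq, QuaternionGroup.orderOf_a_one]
  have hjo : orderOf j = 4 := by
    rw [hj, Subgroup.orderOf_coe, MulEquiv.orderOf_eq, QuaternionGroup.orderOf_xa]
  obtain ⟨g, hg⟩ := h (zpowers i) (zpowers j) inferInstance inferInstance
    (by rw [Nat.card_zpowers, Nat.card_zpowers, hio, hjo])
  have hi'j : g * i * g⁻¹ ∈ zpowers j := by
    rw [hg]; exact ⟨i, mem_zpowers i, rfl⟩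
  have hjP : j ∈ (P : Subgroup H) := SetLike.coe_mem _
  set y : P := ⟨g * i * g⁻¹, zpowers_le.mpr hjP hi'j⟩ with hy
  have hdec : ∀ z : QuaternionGroup 2, z * z ≠ 1 →
      z * QuaternionGroup.xa 0 = QuaternionGroup.xa 0 * z →
      (z * (QuaternionGroup.a 1)⁻¹) * (z * (QuaternionGroup.a 1)⁻¹) ≠ 1 := by decide
  set x : P := y * (eP.symm (QuaternionGroup.a 1))⁻¹ with hx
  have hx4 : x * x ≠ 1 := by
    intro h1
    refine hdec (eP y) ?_ ?_ ?_
    · intro h2
      have h3 : orderOf ((y : H)) ∣ 2 := orderOf_dvd_of_pow_eq_one (by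
        rw [pow_two, ← Subgroup.coe_mul, show y * y = 1 from eP.injective (by rw [map_mul, h2, map_one]),
          Subgroup.coe_one])
      rw [hy] at h3
      simp only [← MulAut.conj_apply, MulEquiv.orderOf_eq, hio] at h3
      norm_num at h3
    · rw [show QuaternionGroup.xa 0 = eP (eP.symm (QuaternionGroup.xa 0)) from
        (eP.apply_symm_apply _).symm, ← map_mul, ← map_mul]
      congr 1
      obtain ⟨k, hk⟩ := mem_zpowers_iff.mp hi'j
      refine Subtype.ext ?_
      show (g * i * g⁻¹) * j = j * (g * i * g⁻¹)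
      rw [← hk]
      exact (Commute.zpow_self j k).eq
    · have := congrArg eP h1
      rwa [hx, map_mul, map_mul, map_inv, MulEquiv.apply_symm_apply, map_one] at this
  have hxC : (x : H) ∈ commutator H := by
    show g * i * g⁻¹ * i⁻¹ ∈ _
    rw [← commutatorElement_def]
    exact Subgroup.commutator_mem_commutator (Subgroup.mem_top _) (Subgroup.mem_top _)
  have hxF : (x : H) ∈ Cfsg.fittingSubgroup H := mem_fitting_of_centralizes fun q hq z hz => by
    haveI := Fact.mk hq
    rcases pCore_cyclic_or_quaternion hφ h hline hcop q with hc | ⟨rfl, -⟩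
    · haveI := hc
      exact commutator_centralizes hxC z hz
    · haveI := hnc
      exact commutator_centralizes hxC z hz
  obtain ⟨k, hk⟩ := P.2 x
  have hxT : (x : H) ∈ T :=
    mem_pCore_of_mem_fitting hxF (by simpa using congrArg Subtype.val hk : (x : H) ^ 2 ^ k = 1)
  have hxo : orderOf (x : H) = 4 := by
    have hall : ∀ z : QuaternionGroup 2, z ^ 4 = 1 := by decide
    refine orderOf_eq_prime_pow (p := 2) (n := 1) ?_ ?_
    · intro h2
      apply hx4
      refine Subtype.ext ?_
      simpa [pow_two] using h2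
    · have h2 : x ^ 4 = 1 := eP.injective (by rw [map_pow, hall, map_one])
      simpa using congrArg Subtype.val h2
  have hiT : i ∈ T := h.mem_of_order hxT (by rw [hxo, hio])
  have hjT : j ∈ T := h.mem_of_order hxT (by rw [hxo, hjo])
  haveI := hnc
  have hij := congrArg Subtype.val ((IsCyclic.commGroup (α := T)).mul_comm ⟨i, hiT⟩ ⟨j, hjT⟩)
  have hne : (QuaternionGroup.a 1 : QuaternionGroup 2) * QuaternionGroup.xa 0 ≠
      QuaternionGroup.xa 0 * QuaternionGroup.a 1 := by decide
  apply hne
  have h3 : eP.symm (QuaternionGroup.a 1) * eP.symm (QuaternionGroup.xa 0) =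
      eP.symm (QuaternionGroup.xa 0) * eP.symm (QuaternionGroup.a 1) := Subtype.ext hij
  rw [← map_mul, ← map_mul] at h3
  exact eP.symm.injective h3

end Action

end CfsgLib.KGroups.CB.SubgroupConj
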