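import Cfsg.Agent.Lib.KGroups.CBSubgroups.Action
import Cfsg.Agent.Lib.Solvable.Hall
import Cfsg.Agent.Lib.Solvable.SupersolvableCriteria

/-!
In a finite solvable group in which abelian subgroups of equal order are conjugate, all subgroups
of equal order are conjugate.
-/

set_option autoImplicit false
set_option linter.style.haveILetI false
set_option linter.unusedSectionVars false

open scoped Pointwise commutatorElement

namespace CfsgLib.KGroups.CB.SubgroupConj

open Subgroup CfsgLib.Solvable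

universe u

variable {G : Type u} [Group G] [Finite G]

/-- Conjugate subgroup. -/
abbrev cjS (g : G) (A : Subgroup G) : Subgroup G := A.map (MulAut.conj g).toMonoidHom

theorem mem_cjS {g x : G} {A : Subgroup G} : x ∈ cjS g A ↔ g⁻¹ * x * g ∈ A := by
  constructor
  · rintro ⟨a, ha, rfl⟩
    simpa [mul_assoc] using ha
  · exact fun h => ⟨_, h, by simp [mul_assoc]⟩

theorem cjS_cjS (g k : G) (A : Subgroup G) : cjS g (cjS k A) = cjS (g * k) A := by
  ext x
  simp only [mem_cjS, mul_inv_rev, mul_assoc]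

theorem card_cjS (g : G) (A : Subgroup G) : Nat.card (cjS g A) = Nat.card A :=
  card_map_of_injective (MulAut.conj g).injective

theorem cjS_normal (g : G) (N : Subgroup G) [hN : N.Normal] : cjS g N = N := by
  ext x
  rw [mem_cjS]
  refine ⟨fun h => ?_, fun h => ?_⟩
  · simpa [mul_assoc] using hN.conj_mem _ h g
  · simpa [mul_assoc] using hN.conj_mem _ h g⁻¹

theorem cjS_inf (g : G) (A B : Subgroup G) : cjS g (A ⊓ B) = cjS g A ⊓ cjS g B :=
  map_inf _ _ _ (MulAut.conj g).injective

/-- Complements of a normal subgroup of coprime order, in a solvable group, are conjugate by an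
element of that subgroup. -/
theorem complement_conj [Group.IsSolvable G] {N A B : Subgroup G} [N.Normal]
    (hA : (Nat.card A).Coprime (Nat.card N)) (hc : Nat.card B = Nat.card A)
    (hAB : A ⊔ N = B ⊔ N) : ∃ f ∈ N, B = cjS f A := by
  set X := A ⊔ N with hX
  have hBX : B ≤ X := hAB ▸ le_sup_left
  have hidx : (A.subgroupOf X).index ∣ Nat.card N := by
    have h1 : Nat.card X * Nat.card (A ⊓ N : Subgroup G) = Nat.card A * Nat.card N := by
      rw [hX, sup_comm, inf_comm, mul_comm (Nat.card A)]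
      exact Fusion.Thompson.card_sup_mul_card_inf (N := N) (K := A)
        (by rw [Subgroup.normalizer_eq_top]; exact le_top)
    have h2 : A ⊓ N = ⊥ := (disjoint_of_coprime_natCard hA).eq_bot
    rw [h2, card_bot, mul_one, ← (A.subgroupOf X).card_mul_index,
      Nat.card_congr (subgroupOfEquivOfLe (le_sup_left : A ≤ X)).toEquiv] at h1
    exact dvd_of_eq (Nat.eq_of_mul_eq_mul_left Nat.card_pos h1)
  obtain ⟨⟨x, hx⟩, hxe⟩ := Solvable.Hall.conj_eq_of_coprime_index (G := X) (H := A.subgroupOf X)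
    (K := B.subgroupOf X)
    (by rw [Nat.card_congr (subgroupOfEquivOfLe (le_sup_left : A ≤ X)).toEquiv]
        exact hA.coprime_dvd_right hidx)
    (by rw [Nat.card_congr (subgroupOfEquivOfLe hBX).toEquiv,
      Nat.card_congr (subgroupOfEquivOfLe (le_sup_left : A ≤ X)).toEquiv, hc])
  obtain ⟨f, hf, a, ha, hfa⟩ := Subgroup.mem_sup_of_normal_left.mp (show x ∈ N ⊔ A by rwa [sup_comm])
  refine ⟨f, hf, (eq_of_le_of_card_ge ?_ (by rw [card_cjS, hc])).symm⟩
  rintro _ ⟨y, hy, rfl⟩
  have hy' : a⁻¹ * y * a ∈ A := mul_mem (mul_mem (inv_mem ha) hy) ha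
  have hm : (⟨x, hx⟩ : X) * ⟨_, (le_sup_left : A ≤ X) hy'⟩ * (⟨x, hx⟩ : X)⁻¹ ∈ B.subgroupOf X := by
    rw [← hxe]
    exact Basic.conj_mem_conj_smul (mem_subgroupOf.mpr hy')
  rw [mem_subgroupOf] at hm
  simp only [Subgroup.coe_mul, Subgroup.coe_inv, ← hfa] at hm
  simpa [mul_assoc] using hm

theorem card_map_mk_eq {N : Subgroup G} [N.Normal] (A : Subgroup G) :
    Nat.card (A.map (QuotientGroup.mk' N)) * Nat.card (A ⊓ N : Subgroup G) = Nat.card A := by
  have h1 := Subgroup.relIndex_ker (K := A) (QuotientGroup.mk' N)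
  rw [QuotientGroup.ker_mk', ← Subgroup.inf_relIndex_right, inf_comm] at h1
  rw [← h1, mul_comm]
  rw [← Nat.card_congr (subgroupOfEquivOfLe (inf_le_left : A ⊓ N ≤ A)).toEquiv]
  exact ((A ⊓ N).subgroupOf A).card_mul_index

theorem sup_eq_of_map_eq {N : Subgroup G} [N.Normal] {A B : Subgroup G}
    (h : A.map (QuotientGroup.mk' N) = B.map (QuotientGroup.mk' N)) : A ⊔ N = B ⊔ N := by
  have h1 := congrArg (Subgroup.comap (QuotientGroup.mk' N)) h
  rwa [Subgroup.comap_map_eq, Subgroup.comap_map_eq, QuotientGroup.ker_mk'] at h1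

/-- Conjugacy in a quotient gives conjugacy modulo the normal subgroup. -/
theorem exists_cjS_map_eq {N : Subgroup G} [N.Normal] {A B : Subgroup G} {g : G ⧸ N}
    (h : B.map (QuotientGroup.mk' N) = cjS g (A.map (QuotientGroup.mk' N))) :
    ∃ g₀ : G, QuotientGroup.mk' N g₀ = g ∧
      (cjS g₀ A).map (QuotientGroup.mk' N) = B.map (QuotientGroup.mk' N) := by
  obtain ⟨g₀, rfl⟩ := QuotientGroup.mk'_surjective N g
  refine ⟨g₀, rfl, ?_⟩
  rw [h, Subgroup.map_map, cjS, Subgroup.map_map]
  congr 1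

/-- In a group with cyclic Sylow subgroups, subgroups of equal order are conjugate. -/
theorem zgroup_conj : ∀ (n : ℕ) (G : Type u) [Group G] [Finite G] [IsZGroup G], Nat.card G = n →
    ∀ A B : Subgroup G, Nat.card A = Nat.card B → ∃ g : G, B = cjS g A := by
  intro n
  induction n using Nat.strong_induction_on with | _ n ih => ?_
  intro G _ _ _ hn A B hc
  rcases subsingleton_or_nontrivial G with hs | hnt
  · exact ⟨1, Subsingleton.elim _ _⟩
  obtain ⟨N, hNn, hN, -, hmin⟩ :=
    Basic.exists_minimal_normal_le (H := (⊤ : Subgroup G)) top_ne_bot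
  haveI := hNn
  obtain ⟨hNc, p, hp, hexp, hNp⟩ := Basic.minimal_normal_solvable N hN hmin
  haveI := Fact.mk hp
  haveI : IsCyclic N := hNp.isCyclic_of_isZGroup
  have hNcard : Nat.card N = p := by
    obtain ⟨x, hx⟩ := IsCyclic.exists_ofOrder_eq_natCard (α := N)
    have hx1 : x ≠ 1 := fun e => hN (by
      rw [← Subgroup.card_eq_one, ← hx, e, orderOf_one])
    rw [← hx, ← Subgroup.orderOf_coe]
    exact orderOf_eq_prime (hexp x x.2) (fun e => hx1 (Subtype.ext e))
  -- every element of order `p` lies in `N`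
  have hmem : ∀ a : G, orderOf a = p → a ∈ N := by
    intro a ha
    have hap : IsPGroup p (zpowers a) :=
      IsPGroup.of_card (n := 1) (by rw [Nat.card_zpowers, ha, pow_one])
    obtain ⟨P, hP⟩ := hap.exists_le_sylow
    have hNP : N ≤ P := hNp.le_sylow_of_normal P
    have h1 : zpowers a = N := SupersolvableCriteria.eq_of_card_eq_of_le_cyclic hP hNP
      (by rw [Nat.card_zpowers, ha, hNcard])
    exact h1 ▸ mem_zpowers a
  have hle : ∀ C : Subgroup G, p ∣ Nat.card C → N ≤ C := by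
    intro C hC
    obtain ⟨c, hc'⟩ := exists_prime_orderOf_dvd_card' (G := C) p hC
    rw [← Subgroup.orderOf_coe] at hc'
    have h1 : zpowers (c : G) = N := eq_of_le_of_card_ge (zpowers_le.mpr (hmem _ hc'))
      (by rw [Nat.card_zpowers, hc', hNcard])
    exact h1 ▸ zpowers_le.mpr c.2
  have hq : Nat.card (A.map (QuotientGroup.mk' N)) = Nat.card (B.map (QuotientGroup.mk' N)) := by
    by_cases hpA : p ∣ Nat.card A
    · have hA := card_map_mk_eq (N := N) A
      have hB := card_map_mk_eq (N := N) B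
      rw [inf_eq_right.mpr (hle A hpA)] at hA
      rw [inf_eq_right.mpr (hle B (hc ▸ hpA)), ← hc, ← hA] at hB
      exact (Nat.eq_of_mul_eq_mul_right Nat.card_pos hB).symm
    · have hcop : ∀ C : Subgroup G, ¬ p ∣ Nat.card C → C ⊓ N = ⊥ := fun C hC =>
        (disjoint_of_coprime_natCard (hNcard ▸ (hp.coprime_iff_not_dvd.mpr hC).symm)).eq_bot
      have hA := card_map_mk_eq (N := N) A
      have hB := card_map_mk_eq (N := N) B
      rw [hcop A hpA, card_bot, mul_one] at hA
      rw [hcop B (hc ▸ hpA), card_bot, mul_one] at hB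
      rw [hA, hB, hc]
  obtain ⟨g, hg⟩ := ih _ (hn ▸ Basic.card_quotient_lt N hN) (G ⧸ N) rfl _ _ hq
  obtain ⟨g₀, -, hg₀⟩ := exists_cjS_map_eq hg
  have hs := sup_eq_of_map_eq hg₀
  by_cases hpA : p ∣ Nat.card A
  · rw [sup_eq_left.mpr (hle _ (by rwa [card_cjS])), sup_eq_left.mpr (hle B (hc ▸ hpA))] at hs
    exact ⟨g₀, hs.symm⟩
  · obtain ⟨f, -, hf⟩ := complement_conj (N := N) (A := cjS g₀ A) (B := B)
      (by rw [card_cjS, hNcard]; exact (hp.coprime_iff_not_dvd.mpr hpA).symm)
      (by rw [card_cjS, hc]) hs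
    exact ⟨f * g₀, by rw [hf, cjS_cjS]⟩

/-- Kernel of the conjugation action on a normal subgroup. -/
theorem conjNormal_eq_one_iff {N : Subgroup G} [N.Normal] {g : G} :
    (MulAut.conjNormal g : MulAut N) = 1 ↔ ∀ x ∈ N, g * x = x * g := by
  constructor
  · intro h x hx
    have h1 := congrArg Subtype.val (DFunLike.congr_fun h ⟨x, hx⟩)
    simp only [MulAut.conjNormal_apply, MulAut.one_apply] at h1
    exact mul_inv_eq_iff_eq_mul.mp h1
  · intro h
    refine MulEquiv.ext fun x => Subtype.ext ?_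
    simp only [MulAut.conjNormal_apply, MulAut.one_apply]
    rw [h x x.2, mul_inv_cancel_right]

/-- Structure when no minimal normal subgroup allows a reduction. -/
theorem conj_of_reduced [Group.IsSolvable G] (h : IsCB G) {A B : Subgroup G}
    (hc : Nat.card A = Nat.card B)
    (hmins : ∀ N : Subgroup G, N.Normal → N ≠ ⊥ → (∀ K : Subgroup G, K.Normal → K ≤ N → K = ⊥ ∨ K = N) →
      ∃ p : ℕ, p.Prime ∧ p ∣ Nat.card B ∧ (∀ x ∈ N, x ^ p = 1) ∧ IsPGroup p N ∧ IsMulCommutative N ∧
        (∀ x : G, ∀ k : ℕ, x ^ p ^ k = 1 → x ∈ N) ∧ ¬ N ≤ B) :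
    ∃ g : G, B = cjS g A := by
  classical
  set F := Cfsg.fittingSubgroup G with hF
  -- the nontrivial cores are the minimal normal subgroups
  have hcore : ∀ r : ℕ, r.Prime → Cfsg.pCore r G ≠ ⊥ → r ∣ Nat.card B ∧
      (∀ x ∈ Cfsg.pCore r G, x ^ r = 1) ∧
      (∀ a ∈ Cfsg.pCore r G, ∀ b ∈ Cfsg.pCore r G, a * b = b * a) ∧
      (∀ x : G, ∀ k : ℕ, x ^ r ^ k = 1 → x ∈ Cfsg.pCore r G) ∧ ¬ Cfsg.pCore r G ≤ B := by
    intro r hr hne
    haveI := Fact.mk hr
    obtain ⟨N, hNn, hN, hNr, hmin⟩ := Basic.exists_minimal_normal_le hne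
    obtain ⟨p, hp, hpB, hexp, hNp, hNc, hall, hNB⟩ := hmins N hNn hN hmin
    obtain ⟨m, hm, hm1⟩ := N.bot_or_exists_ne_one.resolve_left hN
    haveI := Fact.mk hp
    have hmo := orderOf_eq_prime (hexp m hm) hm1
    obtain ⟨k, hk⟩ := Cores.isPGroup_pCore (G := G) r ⟨m, hNr hm⟩
    have hpr : p = r := (Nat.prime_dvd_prime_iff_eq hp hr).mp
      (hp.dvd_of_dvd_pow (hmo ▸ orderOf_dvd_of_pow_eq_one (congrArg Subtype.val hk : m ^ r ^ k = 1)))
    subst hpr
    have he : Cfsg.pCore p G = N := le_antisymm (fun x hx => by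
      obtain ⟨j, hj⟩ := Cores.isPGroup_pCore (G := G) p ⟨x, hx⟩
      exact hall x j (congrArg Subtype.val hj)) hNr
    rw [he]
    exact ⟨hpB, hexp, Basic.isMulCommutative_subgroup_iff.mp hNc, hall, hNB⟩
  have hcoreF : ∀ r : ℕ, r.Prime → Cfsg.pCore r G ≤ F := fun r hr => by
    haveI := Fact.mk hr
    exact Cores.pCore_le_fittingSubgroup r
  -- `F` is abelian and a Hall subgroup
  have hFc : ∀ a ∈ F, ∀ b ∈ F, a * b = b * a := by
    have hle : F ≤ centralizer (F : Set G) := by
      rw [hF, Cores.fittingSubgroup_eq_iSup_pCore]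
      refine iSup_le fun q => Subgroup.le_centralizer_iff.mp (iSup_le fun r => ?_)
      intro x hx
      rw [mem_centralizer_iff]
      intro y hy
      by_cases hqr : r = q
      · subst hqr
        by_cases hne : Cfsg.pCore (r : ℕ) G = ⊥
        · have hy' : y = 1 := mem_bot.mp (hne ▸ hy : y ∈ (⊥ : Subgroup G))
          rw [hy', one_mul, mul_one]
        · exact (hcore r r.2 hne).2.2.1 y hy x hx
      · haveI := Fact.mk q.2
        haveI := Fact.mk r.2
        exact Subgroup.commute_of_normal_of_disjoint _ _ inferInstance inferInstance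
          ((Cores.isPGroup_pCore (q : ℕ)).disjoint_of_ne _ _
            (fun e => hqr (Subtype.ext e.symm)) _ _ (Cores.isPGroup_pCore (r : ℕ))) y x hy hx
    exact fun a ha b hb => mem_centralizer_iff.mp (hle hb) a ha
  have hFr : ∀ r : ℕ, r.Prime → r ∣ Nat.card F → ∀ x : G, ∀ k : ℕ, x ^ r ^ k = 1 → x ∈ F := by
    intro r hr hd x k hx
    haveI := Fact.mk hr
    obtain ⟨y, hy⟩ := exists_prime_orderOf_dvd_card' (G := F) r hd
    have hy' : (y : G) ∈ Cfsg.pCore r G := mem_pCore_of_mem_fitting y.2 (k := 1)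
      (by rw [pow_one, ← hy, ← Subgroup.orderOf_coe, pow_orderOf_eq_one])
    have hne : Cfsg.pCore r G ≠ ⊥ := fun h0 => by
      rw [h0, mem_bot] at hy'
      rw [← Subgroup.orderOf_coe, hy', orderOf_one] at hy
      exact hr.ne_one hy.symm
    exact hcoreF r hr ((hcore r hr hne).2.2.2.1 x k hx)
  have hFhall : (Nat.card F).Coprime F.index := by
    refine Nat.coprime_of_dvd fun r hr hd hi => ?_
    haveI := Fact.mk hr
    obtain ⟨P⟩ : Nonempty (Sylow r G) := inferInstance
    have hPF : (P : Subgroup G) ≤ F := fun x hx => by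
      obtain ⟨k, hk⟩ := P.2 ⟨x, hx⟩
      exact hFr r hr hd x k (congrArg Subtype.val hk)
    exact P.not_dvd_index (hi.trans (index_dvd_of_le hPF))
  have hinf : ∀ C : Subgroup G, Nat.card (C ⊓ F : Subgroup G) = (Nat.card C).gcd (Nat.card F) := by
    intro C
    refine Nat.dvd_antisymm (Nat.dvd_gcd (card_dvd_of_le inf_le_left) (card_dvd_of_le inf_le_right)) ?_
    have h1 := card_map_mk_eq (N := F) C
    have h2 : Nat.card (C.map (QuotientGroup.mk' F)) ∣ F.index := card_subgroup_dvd_card _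
    have h3 : ((Nat.card C).gcd (Nat.card F)).Coprime (Nat.card (C.map (QuotientGroup.mk' F))) :=
      (hFhall.coprime_dvd_left (Nat.gcd_dvd_right _ _)).coprime_dvd_right h2
    have h4 : (Nat.card C).gcd (Nat.card F) ∣
        Nat.card (C.map (QuotientGroup.mk' F)) * Nat.card (C ⊓ F : Subgroup G) :=
      h1.symm ▸ Nat.gcd_dvd_left _ _
    exact h3.dvd_of_dvd_mul_left h4
  -- align the intersections with `F`
  obtain ⟨g₁, hg₁⟩ := h (A ⊓ F) (B ⊓ F)
    (Basic.isMulCommutative_subgroup_iff.mpr fun a ha b hb => hFc a ha.2 b hb.2)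
    (Basic.isMulCommutative_subgroup_iff.mpr fun a ha b hb => hFc a ha.2 b hb.2)
    (by rw [hinf, hinf, hc])
  set A₁ := cjS g₁ A with hA₁
  set R := B ⊓ F with hR
  have hA₁R : A₁ ⊓ F = R := by
    rw [hA₁, hg₁]
    show cjS g₁ A ⊓ F = cjS g₁ (A ⊓ F)
    rw [cjS_inf, cjS_normal g₁ F]
  set S := Subgroup.normalizer (R : Set G) with hS
  have hnormS : ∀ C : Subgroup G, C ⊓ F = R → C ≤ S := by
    intro C hC c hc'
    rw [hS, mem_normalizer_iff]
    have key : ∀ d ∈ C, ∀ x ∈ R, d * x * d⁻¹ ∈ R := by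
      intro d hd x hx
      rw [← hC] at hx ⊢
      exact ⟨C.mul_mem (C.mul_mem hd hx.1) (C.inv_mem hd), Subgroup.Normal.conj_mem inferInstance x hx.2 d⟩
    intro x
    refine ⟨key c hc' x, fun hx => ?_⟩
    simpa [mul_assoc] using key c⁻¹ (C.inv_mem hc') _ hx
  set q := QuotientGroup.mk' F with hq
  haveI : Group.IsSolvable (G ⧸ F) := solvable_of_surjective (QuotientGroup.mk'_surjective F)
  have hQ : IsCB (G ⧸ F) := quotient_of_solvable _ G rfl inferInstance h F
  -- the actions on the cores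
  have hact : ∀ r : ℕ, r.Prime → ∀ (_ : Cfsg.pCore r G ≠ ⊥),
      ∃ ψ : G ⧸ F →* MulAut (Cfsg.pCore r G), ∀ g : G, ψ (q g) = MulAut.conjNormal g := by
    intro r hr hne
    have hker : F ≤ (MulAut.conjNormal : G →* MulAut (Cfsg.pCore r G)).ker := fun g hg =>
      MonoidHom.mem_ker.mpr (conjNormal_eq_one_iff.mpr fun y hy => hFc g hg y (hcoreF r hr hy))
    exact ⟨QuotientGroup.lift F _ hker, fun g => QuotientGroup.lift_mk' F hker g⟩
  choose ψ hψ using hact
  have hfaith : ∀ x : G ⧸ F,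
      (∀ r (hr : r.Prime) (hne : Cfsg.pCore r G ≠ ⊥), ψ r hr hne x = 1) → x = 1 := by
    intro x hx
    obtain ⟨g, rfl⟩ := QuotientGroup.mk'_surjective F x
    refine (QuotientGroup.eq_one_iff g).mpr (Cores.centralizer_fittingSubgroup_le ?_)
    have hle : F ≤ centralizer ({g} : Set G) := by
      rw [hF, Cores.fittingSubgroup_eq_iSup_pCore]
      refine iSup_le fun s y hy => ?_
      rw [mem_centralizer_singleton_iff]
      by_cases hne : Cfsg.pCore (s : ℕ) G = ⊥
      · rw [mem_bot.mp (hne ▸ hy : y ∈ (⊥ : Subgroup G)), one_mul, mul_one]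
      · have h1 := hx s s.2 hne
        rw [← hq, hψ] at h1
        exact (conjNormal_eq_one_iff.mp h1 y hy).symm
    rw [mem_centralizer_iff]
    exact fun y hy => (mem_centralizer_singleton_iff.mp (hle hy))
  -- facts about each action
  have hrange : ∀ r (hr : r.Prime) (hne : Cfsg.pCore r G ≠ ⊥),
      Group.IsSolvable (ψ r hr hne).range ∧ IsCB (ψ r hr hne).range ∧
      (Nat.card (ψ r hr hne).range).Coprime (Nat.card (Cfsg.pCore r G)) ∧
      (∀ x y : Cfsg.pCore r G, x ≠ 1 → y ≠ 1 → ∃ w : (ψ r hr hne).range,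
        (w : MulAut (Cfsg.pCore r G)) x ∈ zpowers y) := by
    intro r hr hne
    haveI := Fact.mk hr
    refine ⟨solvable_of_surjective (ψ r hr hne).rangeRestrict_surjective, (quotient_of_solvable _ (G ⧸ F) rfl inferInstance hQ _).of_equiv
      (QuotientGroup.quotientKerEquivRange _), ?_, fun x y hx hy => ?_⟩
    · refine (hFhall.coprime_dvd_left (card_dvd_of_le (hcoreF r hr))).symm.coprime_dvd_left ?_
      rw [Subgroup.index_eq_card]
      exact Subgroup.card_range_dvd _
    · have hexp := (hcore r hr hne).2.1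
      obtain ⟨g, hg⟩ := h (zpowers (x : G)) (zpowers (y : G)) inferInstance inferInstance (by
        rw [Nat.card_zpowers, Nat.card_zpowers,
          orderOf_eq_prime (hexp x x.2) (fun e => hx (Subtype.ext e)),
          orderOf_eq_prime (hexp y y.2) (fun e => hy (Subtype.ext e))])
      refine ⟨⟨_, q g, rfl⟩, ?_⟩
      obtain ⟨i, hi⟩ := mem_zpowers_iff.mp
        (hg.symm ▸ mem_map_of_mem _ (mem_zpowers (x : G)) : g * (x : G) * g⁻¹ ∈ zpowers (y : G))
      refine ⟨i, Subtype.ext ?_⟩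
      show (((y : Cfsg.pCore r G) ^ i : Cfsg.pCore r G) : G) = ((ψ r hr hne (q g) x : Cfsg.pCore r G) : G)
      rw [hψ, MulAut.conjNormal_apply, SubgroupClass.coe_zpow, hi]
  have hnontriv : ∀ r, r.Prime → Cfsg.pCore r G ≠ ⊥ → Nontrivial (Cfsg.pCore r G) :=
    fun r _ hne => (nontrivial_iff_ne_bot _).mpr hne
  -- no pairs in the quotient
  have hnp : ∀ (s : ℕ) (_ : Fact s.Prime), NoPair (G ⧸ F) s := by
    intro s hs a b ha hb hab
    have ha1 : a ≠ 1 := fun e => hs.out.ne_one (by rw [← ha, e, orderOf_one])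
    obtain ⟨⟨r, hr, hne⟩, hψa⟩ :
        ∃ v : {r : ℕ // r.Prime ∧ Cfsg.pCore r G ≠ ⊥}, ψ v.1 v.2.1 v.2.2 a ≠ 1 := by
      by_contra hcon
      push Not at hcon
      exact ha1 (hfaith a fun r hr hne => hcon ⟨r, hr, hne⟩)
    obtain ⟨hsolR, hCB, hcop, hline⟩ := hrange r hr hne
    haveI := hsolR
    haveI := hnontriv r hr hne
    letI : CommGroup (Cfsg.pCore r G) :=
      { (inferInstance : Group (Cfsg.pCore r G)) with
        mul_comm := fun x y => Subtype.ext ((hcore r hr hne).2.2.1 x x.2 y y.2) }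
    set f := ψ r hr hne
    have hord : ∀ c : G ⧸ F, orderOf c = s → f c ≠ 1 := fun c hc' e =>
      hψa (hQ.mem_of_order (M := f.ker) (m := c) e (by rw [hc', ha]))
    have hro : ∀ c : G ⧸ F, orderOf c = s → orderOf (f.rangeRestrict c) = s := fun c hc' =>
      orderOf_eq_prime (by rw [← map_pow, ← hc', pow_orderOf_eq_one, map_one])
        (fun e => hord c hc' (congrArg Subtype.val e))
    obtain ⟨i, hi⟩ := mem_zpowers_iff.mp (noPair (φ := f.range.subtype) f.range.subtype_injective hCB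
      hline hcop s (f.rangeRestrict a) (f.rangeRestrict b) (hro a ha) (hro b hb)
      (by rw [← map_mul, ← map_mul, hab]))
    refine ⟨i, ?_⟩
    by_contra hne'
    have h1 : f (b * (a ^ i)⁻¹) = 1 := by
      have h2 := congrArg Subtype.val hi
      simp only [SubgroupClass.coe_zpow, MonoidHom.coe_rangeRestrict] at h2
      rw [map_mul, map_inv, map_zpow, h2, mul_inv_cancel]
    refine hord _ (orderOf_eq_prime ?_ fun e => hne' (mul_inv_eq_one.mp e).symm) h1
    have hcom : Commute b (a ^ i)⁻¹ := ((show Commute a b from hab).symm.zpow_right i).inv_right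
    rw [hcom.mul_pow, ← hb, pow_orderOf_eq_one, hb, one_mul, inv_pow, ← zpow_natCast, ← zpow_mul,
      mul_comm, zpow_mul, zpow_natCast, ← ha, pow_orderOf_eq_one, one_zpow, inv_one]
  -- cyclic Sylow subgroups of the image of `S`
  have hZ : IsZGroup (S.map q) := by
    refine ⟨fun s hs Q => ?_⟩
    haveI := Fact.mk hs
    have hfew := few_of_noPair Q.2
      (((hnp s ⟨hs⟩).of_injective _ (S.map q).subtype_injective).of_injective _
        (Q : Subgroup (S.map q)).subtype_injective)
    rcases FrobRealize.Quaternion.cyclic_or_quaternion Q.2 hfew with hcyc | ⟨hs2, n, ⟨e⟩⟩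
    · exact hcyc
    subst hs2
    rcases Nat.eq_zero_or_pos n with rfl | hn
    · exact isCyclic_quaternion_zero e
    set Q₀ := (Q : Subgroup (S.map q)).map (S.map q).subtype with hQ₀
    obtain ⟨P, hP⟩ := (Q.2.map (S.map q).subtype).exists_le_sylow
    rcases sylow_two hQ P (hnp 2 ⟨Nat.prime_two⟩) with hPc | hne
    · haveI := hPc
      let ι : Q →* P := ((S.map q).subtype.comp (Q : Subgroup (S.map q)).subtype).codRestrict
        (P : Subgroup (G ⧸ F)) fun x => hP (mem_map_of_mem _ x.2)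
      exact isCyclic_of_injective ι fun x y hxy =>
        Subtype.ext (Subtype.ext (congrArg Subtype.val hxy :))
    exfalso
    obtain ⟨eP⟩ := hne
    have hPS : (P : Subgroup (G ⧸ F)) ≤ S.map q := by
      have h1 : Q₀ = (P : Subgroup (G ⧸ F)) := by
        refine eq_of_le_of_card_ge hP ?_
        rw [hQ₀, card_subtype, commutative_or_quaternion_card (n := 1) eP,
          commutative_or_quaternion_card e]
        exact Nat.mul_le_mul_left 4 (Nat.pow_le_pow_right two_pos hn)
      rw [← h1]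
      exact map_subtype_le _
    set z : P := eP.symm (QuaternionGroup.a 2) with hz
    have hz1 : (z : G ⧸ F) ≠ 1 := by
      intro h1
      have h2 : z = 1 := Subtype.ext h1
      rw [hz, map_eq_one_iff eP.symm eP.symm.injective] at h2
      exact absurd h2 (by decide)
    obtain ⟨⟨r, hr, hne⟩, hψz⟩ :
        ∃ v : {r : ℕ // r.Prime ∧ Cfsg.pCore r G ≠ ⊥}, ψ v.1 v.2.1 v.2.2 z ≠ 1 := by
      by_contra hcon
      push Not at hcon
      exact hz1 (hfaith _ fun r hr hne => hcon ⟨r, hr, hne⟩)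
    haveI := Fact.mk hr
    obtain ⟨hsolR, hCB, hcop, hline⟩ := hrange r hr hne
    haveI := hsolR
    haveI := hnontriv r hr hne
    obtain ⟨hrB, hexp, hTc, hall, hTB⟩ := hcore r hr hne
    set T := Cfsg.pCore r G with hT
    letI : CommGroup T :=
      { (inferInstance : Group T) with mul_comm := fun x y => Subtype.ext (hTc x x.2 y y.2) }
    set f := ψ r hr hne
    have hinjP : ∀ x : P, f x = 1 → x = 1 := by
      intro x hx
      by_contra hx1
      apply hψz
      have hq8 : ∀ y : QuaternionGroup 2, y ≠ 1 → y = QuaternionGroup.a 2 ∨ y * y = QuaternionGroup.a 2 := by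
        decide
      rcases hq8 (eP x) (fun h1 => hx1 (eP.injective (by rw [h1, map_one]))) with h1 | h1
      · rwa [hz, ← h1, MulEquiv.symm_apply_apply]
      · rw [hz, ← h1, ← map_mul, MulEquiv.symm_apply_apply, Subgroup.coe_mul, map_mul, hx, one_mul]
    let P' := P.mapSurjective f.rangeRestrict_surjective
    let ι₀ : P →* P' := (f.rangeRestrict.comp (P : Subgroup (G ⧸ F)).subtype).codRestrict
      (P' : Subgroup f.range) fun x => ⟨x, x.2, rfl⟩
    let ι : P ≃* P' := MulEquiv.ofBijective ι₀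
      ⟨(injective_iff_map_eq_one ι₀).mpr fun x hx =>
        hinjP x (congrArg (fun y : P' => ((y : f.range) : MulAut T)) hx :),
       fun ⟨_, x, hx, rfl⟩ => ⟨⟨x, hx⟩, rfl⟩⟩
    have hnorm : (P' : Subgroup f.range).Normal :=
      quaternion_normal (φ := f.range.subtype) f.range.subtype_injective hCB hline hcop P'
        (ι.symm.trans eP)
    set Rr := R ⊓ T with hRr
    have hfix : ∀ K : Subgroup G, K ≤ T → Nat.card K = Nat.card Rr → ∀ w : P, ∀ x : T, (x : G) ∈ K →
        ((f w x : T) : G) ∈ K := by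
      intro K hKT hK w x hx
      obtain ⟨g, hg⟩ := h Rr K
        (Basic.isMulCommutative_subgroup_iff.mpr fun a ha b hb => hTc a ha.2 b hb.2)
        (Basic.isMulCommutative_subgroup_iff.mpr fun a ha b hb => hTc a (hKT ha) b (hKT hb)) hK.symm
      have hgx : g⁻¹ * (x : G) * g ∈ Rr := mem_cjS.mp (hg ▸ hx :)
      have h1 := hnorm.conj_mem ⟨f w, (w : G ⧸ F), rfl⟩ ⟨w, w.2, rfl⟩ (f.rangeRestrict (q g⁻¹))
      obtain ⟨w', hw', hw'e⟩ := h1
      obtain ⟨s, hs, rfl⟩ := hPS hw'
      have h2 : f (q s) = f (q g⁻¹) * f w * (f (q g⁻¹))⁻¹ := congrArg Subtype.val hw'e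
      rw [map_inv, map_inv, inv_inv] at h2
      have h3 : f w = f (q g) * f (q s) * (f (q g))⁻¹ := by rw [h2]; group
      have h4 : ((f w x : T) : G) = g * (s * (g⁻¹ * x * g) * s⁻¹) * g⁻¹ := by
        rw [h3, ← map_inv, ← map_inv, MulAut.mul_apply, MulAut.mul_apply, hψ, hψ, hψ]
        simp only [MulAut.conjNormal_apply, inv_inv]
      rw [h4, hg]
      refine ⟨_, ⟨?_, Subgroup.Normal.conj_mem inferInstance _ hgx.2 s⟩, rfl⟩
      exact (mem_normalizer_iff.mp hs _).mp hgx.1
    have hTp : IsPGroup r T := Cores.isPGroup_pCore r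
    obtain ⟨k, hk⟩ := (hTp.to_le (inf_le_right : Rr ≤ T)).exists_card_eq
    have hk1 : 1 ≤ k := by
      obtain ⟨c, hc'⟩ := exists_prime_orderOf_dvd_card' (G := B) r hrB
      by_contra hk0
      obtain rfl : k = 0 := by omega
      rw [pow_zero, card_eq_one] at hk
      have hcR : (c : G) ∈ Rr := by
        have hcT : (c : G) ∈ T := hall c 1 (by
          rw [pow_one, ← hc', ← Subgroup.orderOf_coe, pow_orderOf_eq_one])
        exact ⟨⟨c.2, hcoreF r hr hcT⟩, hcT⟩
      have hc1 : (c : G) = 1 := mem_bot.mp (hk.le hcR)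
      rw [← Subgroup.orderOf_coe, hc1, orderOf_one] at hc'
      exact hr.ne_one hc'.symm
    have hRlt : Nat.card Rr < Nat.card T :=
      (card_le_of_le inf_le_right).lt_of_ne fun e =>
        hTB ((eq_of_le_of_card_ge inf_le_right e.ge).ge.trans (inf_le_left.trans inf_le_left))
    have hlines : ∀ w : P, ∀ x : T, f w x ∈ zpowers x := by
      intro w x
      by_cases hx : x = 1
      · rw [hx, map_one]; exact one_mem _
      by_contra hnot
      have hnot' : ((f w x : T) : G) ∉ zpowers (x : G) := fun hh => by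
        obtain ⟨i, hi⟩ := mem_zpowers_iff.mp hh
        exact hnot ⟨i, Subtype.ext (by simpa using hi)⟩
      obtain ⟨K, hxK, ⟨hKT, hKw⟩, hmax⟩ := Finite.exists_le_maximal
        (p := fun K : Subgroup G => K ≤ T ∧ ((f w x : T) : G) ∉ K) (a := zpowers (x : G))
        ⟨zpowers_le.mpr x.2, hnot'⟩
      set v : G := ((f w x : T) : G) with hv
      have hvT : v ∈ T := SetLike.coe_mem _
      have hTK : T ≤ K ⊔ zpowers v := by
        intro u hu
        by_cases huK : u ∈ K
        · exact mem_sup_left huK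
        have hvu : v ∈ K ⊔ zpowers u := by
          by_contra hvu
          exact huK (hmax ⟨sup_le hKT (zpowers_le.mpr hu), hvu⟩ le_sup_left
            (mem_sup_right (mem_zpowers u)))
        have hn' : zpowers u ≤ normalizer (K : Set G) := by
          refine le_trans ?_ (Subgroup.centralizer_le_normalizer _)
          exact zpowers_le.mpr (mem_centralizer_iff.mpr fun b hb => hTc b (hKT hb) u hu)
        have hset := coe_mul_of_right_le_normalizer_left K (zpowers u) hn'
        obtain ⟨k', hk', _, ⟨i, rfl⟩, hka'⟩ := Set.mem_mul.mp (hset ▸ hvu : v ∈ (K : Set G) * (zpowers u : Set G))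
        have hur : u ^ (r : ℤ) = 1 := by rw [zpow_natCast]; exact hexp u hu
        have hir : ¬ (r : ℤ) ∣ i := by
          rintro ⟨c, rfl⟩
          simp only at hka'
          rw [zpow_mul, hur, one_zpow, mul_one] at hka'
          exact hKw (hka' ▸ hk')
        obtain ⟨s', t', hst⟩ := ((Nat.prime_iff_prime_int.mp hr).coprime_iff_not_dvd.mpr hir)
        have hu' : u = ((k' : G)⁻¹ * v) ^ t' := by
          rw [← hka', inv_mul_cancel_left, ← zpow_mul]
          calc u = u ^ (s' * (r : ℤ) + t' * i) := by rw [hst, zpow_one]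
            _ = u ^ (i * t') := by
              rw [zpow_add, mul_comm s', zpow_mul, hur, one_zpow, one_mul, mul_comm]
        rw [hu']
        exact zpow_mem (mul_mem (mem_sup_left (K.inv_mem hk')) (mem_sup_right (mem_zpowers v))) _
      have hcard : Nat.card T ≤ Nat.card K * r := by
        refine (card_le_of_le hTK).trans ?_
        have hn : zpowers v ≤ normalizer (K : Set G) := by
          refine le_trans ?_ (Subgroup.centralizer_le_normalizer _)
          exact zpowers_le.mpr (mem_centralizer_iff.mpr fun b hb => hTc b (hKT hb) v hvT)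
        calc Nat.card (K ⊔ zpowers v : Subgroup G)
            = Nat.card ((K : Set G) * (zpowers v : Set G) : Set G) := by
              rw [← coe_mul_of_right_le_normalizer_left K (zpowers v) hn]; rfl
          _ ≤ Nat.card K * Nat.card (zpowers v) := Set.natCard_mul_le
          _ ≤ Nat.card K * r := by
              rw [Nat.card_zpowers]
              exact Nat.mul_le_mul_left _ (orderOf_le_of_pow_eq_one hr.pos (hexp v hvT))
      obtain ⟨l, hl⟩ := (hTp.to_le hKT).exists_card_eq
      obtain ⟨t, ht⟩ := hTp.exists_card_eq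
      have hkl : k ≤ l := by
        rw [hl, ht, ← pow_succ] at hcard
        rw [hk, ht] at hRlt
        have h1 := (Nat.pow_le_pow_iff_right hr.one_lt).mp hcard
        have h2 := (Nat.pow_lt_pow_iff_right hr.one_lt).mp hRlt
        omega
      have hxo : orderOf (x : G) = r :=
        orderOf_eq_prime (hexp x x.2) (fun e => hx (Subtype.ext e))
      obtain ⟨K₀, hK₀, hxK₀⟩ := Sylow.exists_subgroup_card_pow_prime_le (G := K) r
        (hl ▸ pow_dvd_pow r hkl) ((zpowers (x : G)).subgroupOf K)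
        (n := 1) (by rw [Nat.card_congr (subgroupOfEquivOfLe hxK).toEquiv, Nat.card_zpowers, hxo, pow_one])
        hk1
      have h1 := hfix (K₀.map K.subtype) ((map_subtype_le _).trans hKT) (by rw [card_subtype, hK₀, hk]) w x
        ⟨⟨x, hxK (mem_zpowers _)⟩, hxK₀ (mem_subgroupOf.mpr (mem_zpowers _)), rfl⟩
      exact hKw (map_subtype_le _ h1)
    set i : P := eP.symm (QuaternionGroup.a 1) with hi
    set j : P := eP.symm (QuaternionGroup.xa 0) with hj
    have hij : f (i * j : P) = f (j * i : P) := by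
      refine MulEquiv.ext fun x => ?_
      obtain ⟨a, ha⟩ := mem_zpowers_iff.mp (hlines i x)
      obtain ⟨c, hc'⟩ := mem_zpowers_iff.mp (hlines j x)
      rw [Subgroup.coe_mul, Subgroup.coe_mul, map_mul, map_mul, MulAut.mul_apply, MulAut.mul_apply]
      rw [← ha, ← hc', map_zpow, map_zpow, ← ha, ← hc', ← zpow_mul, ← zpow_mul, mul_comm]
    have h1 : (i * j) * (j * i)⁻¹ = 1 := hinjP _ (by
      rw [Subgroup.coe_mul, Subgroup.coe_inv, map_mul, map_inv, hij, mul_inv_cancel])
    rw [mul_inv_eq_one, hi, hj, ← map_mul, ← map_mul] at h1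
    exact absurd (eP.symm.injective h1) (by decide)
  -- conclusion
  haveI := hZ
  have hA₁S : A₁ ≤ S := hnormS A₁ hA₁R
  have hBS : B ≤ S := hnormS B rfl
  have hbar : Nat.card (A₁.map q) = Nat.card (B.map q) := by
    have h1 := card_map_mk_eq (N := F) A₁
    have h2 := card_map_mk_eq (N := F) B
    rw [hA₁R] at h1
    rw [← hR, ← hc, ← card_cjS g₁ A, ← hA₁, ← h1] at h2
    exact (Nat.eq_of_mul_eq_mul_right Nat.card_pos h2).symm
  obtain ⟨⟨w, hw⟩, hwe⟩ := zgroup_conj _ (S.map q) rfl ((A₁.map q).subgroupOf (S.map q))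
    ((B.map q).subgroupOf (S.map q))
    (by rw [Nat.card_congr (subgroupOfEquivOfLe (map_mono hA₁S)).toEquiv,
      Nat.card_congr (subgroupOfEquivOfLe (map_mono hBS)).toEquiv, hbar])
  obtain ⟨s, hs, rfl⟩ := hw
  set A₂ := cjS s A₁ with hA₂
  have hA₂R : A₂ ⊓ F = R := by
    rw [hA₂, ← cjS_normal s F, ← cjS_inf, hA₁R]
    ext x
    rw [mem_cjS]
    refine ⟨fun hx => ?_, fun hx => ?_⟩
    · simpa [mul_assoc] using (mem_normalizer_iff.mp hs _).mp hx
    · exact (mem_normalizer_iff.mp hs _).mpr (by simpa [mul_assoc] using hx)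
  have hA₂B : A₂.map q = B.map q := by
    ext y
    constructor
    · rintro ⟨x, hx, rfl⟩
      have hx' := mem_cjS.mp hx
      have hxS : x ∈ S := by
        simpa [mul_assoc] using mul_mem (mul_mem hs (hA₁S hx')) (inv_mem hs)
      have h1 : (⟨q x, mem_map_of_mem q hxS⟩ : S.map q) ∈ (B.map q).subgroupOf (S.map q) := by
        rw [hwe, mem_cjS, mem_subgroupOf]
        exact ⟨_, hx', by simp⟩
      exact mem_subgroupOf.mp h1
    · intro hy
      have hyS : y ∈ S.map q := map_mono hBS hy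
      have h1 : (⟨y, hyS⟩ : S.map q) ∈ (B.map q).subgroupOf (S.map q) := mem_subgroupOf.mpr hy
      rw [hwe, mem_cjS, mem_subgroupOf] at h1
      obtain ⟨x, hx, hxe⟩ := h1
      refine ⟨s * x * s⁻¹, mem_cjS.mpr (by simpa [mul_assoc] using hx), ?_⟩
      rw [map_mul, map_mul, map_inv, hxe]
      simp [mul_assoc]
  -- complements of the intersection with `F`
  have hcompl : ∀ C : Subgroup G, C ⊓ F = R → ∃ D : Subgroup G, D ≤ C ∧ C ≤ R ⊔ D ∧
      Nat.card D = Nat.card (C.map q) ∧ (Nat.card D).Coprime (Nat.card F) := by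
    intro C hC
    have hcardR : Nat.card (F.subgroupOf C) = Nat.card R := by
      rw [← Subgroup.inf_subgroupOf_left, Nat.card_congr (subgroupOfEquivOfLe inf_le_left).toEquiv, hC]
    have hcm := card_map_mk_eq (N := F) C
    rw [hC, mul_comm] at hcm
    have hidx : (F.subgroupOf C).index = Nat.card (C.map q) := by
      have h1 := (F.subgroupOf C).card_mul_index
      rw [hcardR, ← hcm] at h1
      exact Nat.eq_of_mul_eq_mul_left Nat.card_pos h1
    have hcop : (Nat.card (C.map q)).Coprime (Nat.card F) :=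
      (hFhall.coprime_dvd_right (card_subgroup_dvd_card (C.map q))).symm
    obtain ⟨D', hD'⟩ := Subgroup.exists_right_complement'_of_coprime (N := F.subgroupOf C) (by
      rw [hcardR, hidx]
      exact (hcop.coprime_dvd_right (card_dvd_of_le (hR ▸ inf_le_right))).symm)
    refine ⟨D'.map C.subtype, map_subtype_le _, ?_, ?_, ?_⟩
    · intro c hc'
      have h1 : (⟨c, hc'⟩ : C) ∈ F.subgroupOf C ⊔ D' := hD'.sup_eq_top ▸ mem_top _
      have h2 : c ∈ (F.subgroupOf C ⊔ D').map C.subtype := ⟨_, h1, rfl⟩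
      rw [Subgroup.map_sup, Subgroup.subgroupOf_map_subtype, inf_comm, hC] at h2
      exact h2
    · rw [card_subtype, ← hidx]
      exact (hD'.symm.index_eq_card).symm
    · rw [card_subtype, show Nat.card D' = (F.subgroupOf C).index from hD'.symm.index_eq_card.symm, hidx]
      exact hcop
  obtain ⟨D₁, hD₁A, hAD₁, hD₁c, hD₁F⟩ := hcompl A₂ hA₂R
  obtain ⟨D₂, hD₂B, hBD₂, hD₂c, -⟩ := hcompl B rfl
  have hsup : ∀ (C D : Subgroup G), D ≤ C → C ≤ R ⊔ D → D ⊔ F = C ⊔ F := fun C D hDC hCD =>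
    le_antisymm (sup_le_sup_right hDC F) (sup_le (hCD.trans (sup_le
      ((inf_le_right : R ≤ F).trans le_sup_right) le_sup_left)) le_sup_right)
  obtain ⟨f, hf, hfD⟩ := complement_conj (N := F) (A := D₁) (B := D₂) hD₁F
    (by rw [hD₂c, hD₁c, hA₂B])
    (by rw [hsup A₂ D₁ hD₁A hAD₁, hsup B D₂ hD₂B hBD₂, sup_eq_of_map_eq hA₂B])
  refine ⟨f * s * g₁, ?_⟩
  rw [← cjS_cjS (f * s) g₁, ← cjS_cjS f s, ← hA₁, ← hA₂]
  refine (eq_of_le_of_card_ge ?_ (by rw [card_cjS, hA₂, card_cjS, hA₁, card_cjS, hc])).symm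
  refine (map_mono hAD₁).trans ?_
  rw [Subgroup.map_sup]
  refine sup_le ?_ (le_of_eq hfD.symm |>.trans hD₂B)
  rintro _ ⟨x, hx, rfl⟩
  show f * x * f⁻¹ ∈ B
  rw [hFc f hf x hx.2, mul_inv_cancel_right]
  exact hx.1

/-- **Main theorem.** -/
theorem conj_of_card_eq : ∀ (n : ℕ) (G : Type u) [Group G] [Finite G], Nat.card G = n →
    Group.IsSolvable G → IsCB G → ∀ A B : Subgroup G, Nat.card A = Nat.card B → ∃ g : G, B = cjS g A := by
  intro n
  induction n using Nat.strong_induction_on with | _ n ih => ?_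
  intro G _ _ hn hsol h A B hc
  haveI := hsol
  by_cases hred : ∃ N : Subgroup G, N.Normal ∧ N ≠ ⊥ ∧ (N ≤ A ∧ N ≤ B ∨
      (Nat.card A).Coprime (Nat.card N))
  · obtain ⟨N, hNn, hN, hcase⟩ := hred
    haveI := hNn
    have hq : Nat.card (A.map (QuotientGroup.mk' N)) = Nat.card (B.map (QuotientGroup.mk' N)) := by
      have hA := card_map_mk_eq (N := N) A
      have hB := card_map_mk_eq (N := N) B
      rcases hcase with ⟨hNA, hNB⟩ | hcop
      · rw [inf_eq_right.mpr hNA] at hA
        rw [inf_eq_right.mpr hNB, ← hc, ← hA] at hB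
        exact (Nat.eq_of_mul_eq_mul_right Nat.card_pos hB).symm
      · rw [(disjoint_of_coprime_natCard hcop).eq_bot, card_bot, mul_one] at hA
        rw [(disjoint_of_coprime_natCard (hc ▸ hcop)).eq_bot, card_bot, mul_one] at hB
        rw [hA, hB, hc]
    obtain ⟨g, hg⟩ := ih _ (hn ▸ Basic.card_quotient_lt N hN) (G ⧸ N) rfl
      (solvable_of_surjective (QuotientGroup.mk'_surjective N))
      (quotient_of_solvable _ G rfl hsol h N) _ _ hq
    obtain ⟨g₀, -, hg₀⟩ := exists_cjS_map_eq hg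
    have hs := sup_eq_of_map_eq hg₀
    rcases hcase with ⟨hNA, hNB⟩ | hcop
    · have hNA' : N ≤ cjS g₀ A := (cjS_normal g₀ N).ge.trans (map_mono hNA)
      rw [sup_eq_left.mpr hNA', sup_eq_left.mpr hNB] at hs
      exact ⟨g₀, hs.symm⟩
    · obtain ⟨f, -, hf⟩ := complement_conj (N := N) (A := cjS g₀ A) (B := B)
        (by rw [card_cjS]; exact hcop) (by rw [card_cjS, hc]) hs
      exact ⟨f * g₀, by rw [hf, cjS_cjS]⟩
  push Not at hred
  refine conj_of_reduced h hc fun N hNn hN hmin => ?_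
  haveI := hNn
  obtain ⟨hpart, hcop⟩ := hred N hNn hN
  obtain ⟨hNc, p, hp, hexp, hNp⟩ := Basic.minimal_normal_solvable N hN hmin
  haveI := Fact.mk hp
  obtain ⟨t, ht⟩ := hNp.exists_card_eq
  have hpA : p ∣ Nat.card A := by
    by_contra hpA
    exact hcop (ht ▸ (hp.coprime_iff_not_dvd.mpr hpA).symm.pow_right t)
  obtain ⟨m, hm, hm1⟩ := N.bot_or_exists_ne_one.resolve_left hN
  have hmo := orderOf_eq_prime (hexp m hm) hm1
  have hin : ∀ C : Subgroup G, p ∣ Nat.card C → ∃ x ∈ C, x ∈ N ∧ orderOf x = p := by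
    intro C hC
    obtain ⟨x, hx⟩ := exists_prime_orderOf_dvd_card' (G := C) p hC
    rw [← Subgroup.orderOf_coe] at hx
    exact ⟨x, x.2, h.mem_of_order hm (by rw [hmo, hx]), hx⟩
  -- `N` is not cyclic
  have hncyc : ∃ b ∈ N, b ∉ zpowers m := by
    by_contra hcon
    push Not at hcon
    have hle : ∀ C : Subgroup G, p ∣ Nat.card C → N ≤ C := by
      intro C hC
      obtain ⟨x, hxC, hxN, hx⟩ := hin C hC
      have h1 : zpowers x = N := by
        refine eq_of_le_of_card_ge (zpowers_le.mpr hxN) ?_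
        rw [Nat.card_zpowers, hx, ← hmo, ← Nat.card_zpowers]
        exact card_le_of_le hcon
      exact h1 ▸ zpowers_le.mpr hxC
    exact hpart (hle A hpA) (hle B (hc ▸ hpA))
  obtain ⟨b, hbN, hbm⟩ := hncyc
  have hNcomm := Basic.isMulCommutative_subgroup_iff.mp hNc
  have hall : ∀ x : G, ∀ k : ℕ, x ^ p ^ k = 1 → x ∈ N := by
    intro x k hx
    obtain ⟨j, -, hj⟩ := (Nat.dvd_prime_pow hp).mp (orderOf_dvd_of_pow_eq_one hx)
    rcases Nat.lt_or_ge j 2 with hj2 | hj2
    · interval_cases j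
      · rw [pow_zero, orderOf_eq_one_iff] at hj; rw [hj]; exact one_mem _
      · exact h.mem_of_order hm (by rw [hmo, hj, pow_one])
    exfalso
    obtain ⟨E, hE, hmE, hbE, hEf⟩ := CfsgLib.PGroup.ConjugateSubgroups.exists_pair hmo (hexp b hbN)
      (hNcomm m hm b hbN) hbm
    have hEN : E ≤ N := fun w hw => by
      obtain ⟨i, l, rfl⟩ := hEf w hw
      exact mul_mem (zpow_mem hm i) (zpow_mem hbN l)
    have hwo : orderOf (x ^ p ^ (j - 2)) = p ^ 2 := by
      rw [orderOf_pow' _ (pow_ne_zero _ hp.ne_zero), hj,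
        Nat.gcd_eq_right (pow_dvd_pow p (Nat.sub_le j 2)), Nat.pow_div (Nat.sub_le j 2) hp.pos]
      congr 1; omega
    obtain ⟨g, hg⟩ := h E (zpowers (x ^ p ^ (j - 2)))
      (Basic.isMulCommutative_subgroup_iff.mpr fun u hu v hv => hNcomm u (hEN hu) v (hEN hv))
      inferInstance (by rw [hE, Nat.card_zpowers, hwo])
    obtain ⟨u, hu, hue⟩ : x ^ p ^ (j - 2) ∈ E.map (MulAut.conj g).toMonoidHom := hg ▸ mem_zpowers _
    have h1 : orderOf (x ^ p ^ (j - 2)) ∣ p := orderOf_dvd_of_pow_eq_one (by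
      rw [← hue, ← map_pow, hexp u (hEN hu), map_one])
    rw [hwo] at h1
    have := Nat.le_of_dvd hp.pos h1
    nlinarith [hp.one_lt]
  refine ⟨p, hp, hc ▸ hpA, hexp, hNp, hNc, hall, fun hNB => hpart ?_ hNB⟩
  have hd : p ^ t ∣ Nat.card A := hc ▸ ht ▸ card_dvd_of_le hNB
  obtain ⟨K, hK⟩ := Sylow.exists_subgroup_card_pow_prime (G := A) p hd
  have h1 : K.map A.subtype = N := by
    refine eq_of_le_of_card_ge ?_ (by rw [card_subtype, hK, ht])
    rintro _ ⟨x, hx, rfl⟩
    refine hall x t ?_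
    have h2 : (⟨x, hx⟩ : K) ^ p ^ t = 1 := by rw [← hK]; exact pow_card_eq_one'
    exact congrArg (fun y : K => ((y : A) : G)) h2
  exact h1 ▸ map_subtype_le _

end CfsgLib.KGroups.CB.SubgroupConj
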